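import Cfsg.Agent.Lib.AltModule.P5.M3.C0
import Cfsg.Agent.Lib.AltModule.P5.M3.C1
import Cfsg.Agent.Lib.AltModule.P5.M3.C2
import Cfsg.Agent.Lib.AltModule.P5.M4

/-!
Every intertwiner from this module is zero.
-/

namespace Cfsg.Agent.AltMod.P5.M3

theorem final : mdl.finalOk 10 5 8 k3 0x300040003000300030004000100010002000400040001000200030001000000010000000000000002000100010000000000010000000300000002000000020001000200030002000400020004000300010004000300010003000200010003000100020001000100030000000400030004000400010003000200020004000300020004000000010002000000020001000400030003000400020000000300010000000300040002000400010002000000010001000000010003000400000001000400010002000400040002000100030004000200010003000100010000000300020001000000020002000000000000000000030001000000010004000000010000000300030001000000000000000000000000000000000000000000000000000000000000000000000000000000000000000000000000000000000000000000000000000000000000000000000000000000000000000000000000000000000000000000000000000000000000000000000000000000000000000000000000000000000000000000000000000000000000000000000000000000000000000000000000000000000000000000000000000000000000000000000000000000000000000000000000000000000000000000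00000000000000000000000000000000000000000000000000000000000000000000000000000000000000000000000000000000000000000000000000000000000000000000000000000000000000000000000000000000000000000000000000000000000000000000000000000000000000000000000000000000000000000000000000000000000000000000000000000000000000000000000000000000000000000000000000000000000000000000000000000000000000000000000000000000000000000000000000000000000000000000000000000000000000000000000000000000000000000000000000000000000000000000000000000000000000000000000000000000000000000000000000000000000000000000000000000000000000000000000000000000000000 = true := by decide +kernel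

theorem tree : mdl.treeOk [(0, 0), (0, 1), (0, 2), (0, 3), (0, 4), (0, 5), (1, 0), (1, 1), (1, 2), (1, 3), (1, 4), (1, 5), (2, 0), (2, 1), (2, 2), (2, 3), (2, 4), (3, 0), (3, 1), (3, 2), (3, 3), (3, 4), (3, 5), (4, 0), (4, 2), (5, 0), (6, 0), (7, 1), (7, 3), (7, 4), (8, 1), (8, 2), (8, 3), (8, 4), (9, 1), (9, 2), (10, 1), (10, 3), (12, 1), (13, 0), (13, 2), (13, 3)] = true := by decide +kernel

theorem kills {V : Type*} [AddCommGroup V] [DistribMulAction (Alt 10) V]
    (hV : ∀ v : V, 5 • v = 0) (hbad : Bad 10 V subs) : Kills 10 V mdl := by
  intro φ hφ
  have hM := mdl_ok
  have a0 : mdl.AllKilled 10 5 V φ k0 := Mod.allKilled_nil φ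
  have p0 : mdl.AllKilled 10 5 V φ pc0 :=
    Mod.spin_step hV hM hbad hφ (h := subs.getD 24 ([], []))
      (by decide) fix0_1 fix0_2 spin0 a0
  have a1 : mdl.AllKilled 10 5 V φ k1 := p0
  have p1 : mdl.AllKilled 10 5 V φ pc1 :=
    Mod.spin_step hV hM hbad hφ (h := subs.getD 26 ([], []))
      (by decide) fix1_1 fix1_2 spin1 a1
  have a2 : mdl.AllKilled 10 5 V φ k2 := Mod.allKilled_append a1 p1
  have p2 : mdl.AllKilled 10 5 V φ pc2 := by
    refine Mod.factor_step hV hM (M4.kills hV hbad) hφ (C := c2) (fun s hs => ?_) a2 (by decide)
    change s < 7 at hs
    interval_cases s
    · exact fac2_0
    · exact fac2_1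
    · exact fac2_2
    · exact fac2_3
    · exact fac2_4
    · exact fac2_5
    · exact fac2_6
  have a3 : mdl.AllKilled 10 5 V φ k3 := Mod.allKilled_append a2 p2
  exact Mod.final_step hV hM hφ final tree a3

end Cfsg.Agent.AltMod.P5.M3
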