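import Cfsg.Agent.Lib.AltModule.P5.M2.C0
import Cfsg.Agent.Lib.AltModule.P5.M2.C1
import Cfsg.Agent.Lib.AltModule.P5.M2.C2
import Cfsg.Agent.Lib.AltModule.P5.M2.C3
import Cfsg.Agent.Lib.AltModule.P5.M3
import Cfsg.Agent.Lib.AltModule.P5.M5

/-!
Every intertwiner from this module is zero.
-/

namespace Cfsg.Agent.AltMod.P5.M2

theorem final : mdl.finalOk 10 5 7 k4 0x100000001000100040004000100030004000200010003000100000001000000020003000100040003000000010000000000040003000200020001000300020001000200000003000100030000000200020004000400020001000000020002000100020001000100030002000200030000000400030004000200020003000400030003000400020004000000030002000400010001000200010004000000020002000200040000000200010003000400010000000000000000000000000000000000000000000000000000000000000000000000000000000000000000000000000000000000000000000000000000000000000000000000000000000000000000000000000000000000000000000000000000000000000000000000000000000000000000000000000000000000000000000000000000000000000000000000000000000000000000000000000000000000000000000000000000000000000000000000000000000000000000000000000000000000000000000000000000000000000000000000000000000000000000000000000000000000000000000000000000000000000000000000000000000000000000000000000000000000000000000000000000000000000000000000000000000000000000000000000000000000000000000000000000000000000000000000000000000000000000000000000000000000000000000000000000000000000000000000000000000000000000000000000000000000000000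 = true := by decide +kernel

theorem tree : mdl.treeOk [(0, 0), (0, 1), (0, 2), (0, 3), (0, 4), (1, 0), (1, 1), (1, 2), (1, 3), (2, 0), (2, 2), (3, 0), (3, 1), (3, 2), (3, 3), (3, 4), (4, 2), (5, 2), (6, 2), (7, 2), (8, 1), (8, 2), (8, 3), (10, 2), (11, 0), (12, 0), (12, 1), (12, 3), (13, 0), (13, 1), (13, 3), (14, 0), (14, 1), (15, 1)] = true := by decide +kernel

theorem kills {V : Type*} [AddCommGroup V] [DistribMulAction (Alt 10) V]
    (hV : ∀ v : V, 5 • v = 0) (hbad : Bad 10 V subs) : Kills 10 V mdl := by
  intro φ hφ
  have hM := mdl_ok
  have a0 : mdl.AllKilled 10 5 V φ k0 := Mod.allKilled_nil φ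
  have p0 : mdl.AllKilled 10 5 V φ pc0 :=
    Mod.spin_step hV hM hbad hφ (h := subs.getD 14 ([], []))
      (by decide) fix0_1 fix0_2 spin0 a0
  have a1 : mdl.AllKilled 10 5 V φ k1 := p0
  have p1 : mdl.AllKilled 10 5 V φ pc1 :=
    Mod.spin_step hV hM hbad hφ (h := subs.getD 16 ([], []))
      (by decide) fix1_1 fix1_2 spin1 a1
  have a2 : mdl.AllKilled 10 5 V φ k2 := Mod.allKilled_append a1 p1
  have p2 : mdl.AllKilled 10 5 V φ pc2 := by
    refine Mod.factor_step hV hM (M3.kills hV hbad) hφ (C := c2) (fun s hs => ?_) a2 (by decide)
    change s < 6 at hs
    interval_cases s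
    · exact fac2_0
    · exact fac2_1
    · exact fac2_2
    · exact fac2_3
    · exact fac2_4
    · exact fac2_5
  have a3 : mdl.AllKilled 10 5 V φ k3 := Mod.allKilled_append a2 p2
  have p3 : mdl.AllKilled 10 5 V φ pc3 := by
    refine Mod.factor_step hV hM (M5.kills hV hbad) hφ (C := c3) (fun s hs => ?_) a3 (by decide)
    change s < 6 at hs
    interval_cases s
    · exact fac3_0
    · exact fac3_1
    · exact fac3_2
    · exact fac3_3
    · exact fac3_4
    · exact fac3_5
  have a4 : mdl.AllKilled 10 5 V φ k4 := Mod.allKilled_append a3 p3
  exact Mod.final_step hV hM hφ final tree a4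

end Cfsg.Agent.AltMod.P5.M2
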