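import Cfsg.Agent.Lib.AltModule.P5.M8.C0
import Cfsg.Agent.Lib.AltModule.P5.M8.C1
import Cfsg.Agent.Lib.AltModule.P5.M8.C2
import Cfsg.Agent.Lib.AltModule.P5.M5

/-!
Every intertwiner from this module is zero.
-/

namespace Cfsg.Agent.AltMod.P5.M8

theorem final : mdl.finalOk 10 5 7 k3 0x200040000000100020004000300020000000300020001000000000002000400020003000100030002000200020001000200030003000400030001000200000002000200010001000200010000000200030004000200040001000400000002000000030001000300030003000300000000000400020004000100010004000000000004000100030003000100020002000100010004000300000000000300020001000100030000000100000001000400040000000000000000000000000000000000000000000000000000000000000000000000000000000000000000000000000000000000000000000000000000000000000000000000000000000000000000000000000000000000000000000000000000000000000000000000000000000000000000000000000000000000000000000000000000000000000000 = true := by decide +kernel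

theorem tree : mdl.treeOk [(0, 0), (0, 1), (0, 2), (0, 3), (0, 4), (1, 1), (1, 2), (2, 0), (2, 2), (2, 3), (3, 0), (3, 3), (4, 1), (4, 2), (8, 3), (9, 3), (11, 3), (13, 2), (15, 2)] = true := by decide +kernel

theorem kills {V : Type*} [AddCommGroup V] [DistribMulAction (Alt 10) V]
    (hV : ∀ v : V, 5 • v = 0) (hbad : Bad 10 V subs) : Kills 10 V mdl := by
  intro φ hφ
  have hM := mdl_ok
  have a0 : mdl.AllKilled 10 5 V φ k0 := Mod.allKilled_nil φ
  have p0 : mdl.AllKilled 10 5 V φ pc0 :=
    Mod.spin_step hV hM hbad hφ (h := subs.getD 14 ([], []))
      (by decide) fix0_1 fix0_2 spin0 a0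
  have a1 : mdl.AllKilled 10 5 V φ k1 := p0
  have p1 : mdl.AllKilled 10 5 V φ pc1 :=
    Mod.spin_step hV hM hbad hφ (h := subs.getD 14 ([], []))
      (by decide) fix1_1 fix1_2 spin1 a1
  have a2 : mdl.AllKilled 10 5 V φ k2 := Mod.allKilled_append a1 p1
  have p2 : mdl.AllKilled 10 5 V φ pc2 := by
    refine Mod.factor_step hV hM (M5.kills hV hbad) hφ (C := c2) (fun s hs => ?_) a2 (by decide)
    change s < 6 at hs
    interval_cases s
    · exact fac2_0
    · exact fac2_1
    · exact fac2_2
    · exact fac2_3
    · exact fac2_4
    · exact fac2_5
  have a3 : mdl.AllKilled 10 5 V φ k3 := Mod.allKilled_append a2 p2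
  exact Mod.final_step hV hM hφ final tree a3

end Cfsg.Agent.AltMod.P5.M8
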