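import Cfsg.Agent.Lib.AltModule.P5.Subs
import Cfsg.Agent.Lib.AltModule.Perfect

/-!
Each listed pair generates a perfect group: commutator certificates.
-/

namespace Cfsg.Agent.AltMod.P5

def perfect : List (List (List Bool) × List (List Bool)) := [
  ([[true, true, false, true, false, true], [true, false, true, true, false, true, true], [false, true, false, true, false, true, true], [true, false, true, false, true, true]], [[false, true, true], [false, true, true, false, true, false, true], [true, false], [false, true, false, true, false, true, true, false]]),
  ([[true, true, false, true, false, true], [true, false, true, true, false, true, true], [false, true, false, true, false, true, true], [true, false, true, false, true, true]], [[false, true, true], [false, true, false, true, true, false, true], [true, false], [true, true, false, true, false, true, true, false]]),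
  ([[true, true, false, true, false, true], [true, false, true, true, false, true, true], [false, true, false, true, false, true, true], [true, false, true, false, true, true]], [[false, true, true], [false, true, true, false, true, false, true], [true, false], [false, true, false, true, false, true, true, false]]),
  ([[true, true, false, true, false, true], [true, false, true, true, false, true, true], [false, true, false, true, false, true, true], [true, false, true, false, true, true]], [[false, true, true], [false, true, true, false, true, false, true], [true, false], [false, true, false, true, false, true, true, false]]),
  ([[true, false, true, true], [false, true, false, true, false, true, true, true], [false, true, true, false, true, true, false, true], [true, true, true, false, true, false, true]], [[true, true, true], [false, true, false, true, true, false, true, false], [true, true], [false, true, false, true, true, false, true, false]]),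
  ([[true, false, true, true], [false, true, false, true, false, true, true, true], [false, true, true, false, true, true, false, true], [true, true, true, false, true, false, true]], [[false, true, true, true, false, true], [false, true, true, false, true, true, true, true], [true, true, true, true, false, true, true, false], [true, false, true, true, true, false]]),
  ([[false, true, false, true, false, true, true], [false, true, false, true, false, true, true, false], [true, true, false, true, false, true], [false, true, true, false, true, false, true]], [[false, true, true], [false, true, true, false, true, false, true], [true, false], [false, true, false, true, false, true, true, false]]),
  ([[true, true, false, true, false, true], [true, false, true, true, false, true, true], [false, true, false, true, false, true, true], [true, false, true, false, true, true]], [[false, true, true], [false, true, true, false, true, false, true], [true, false], [false, true, false, true, false, true, true, false]]),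
  ([[true, true, true, false, true], [true, true, true, false, true, false], [false, true, false, true, true, true], [true, false, true, true, true]], [[false, true, false], [false, true, true], [true, false, true], [true, true, true, false]]),
  ([[true, true, true, false, true], [true, true, true, false, true, false], [false, true, false, true, true, true], [true, false, true, true, true]], [[false, true, false], [false, true, true], [true, false, true], [true, true, true, false]]),
  ([[true, false, true, true, false, true, false, true, true], [true, true, false, true, false, true, true, false, true], [true, false, true, true, false, true, false, true, true], [true, true, false, true, false, true, true, false, true]], [[false, true, false, true, false, true], [true, false, true, false, true, false, true, false], [false, true, false, true, false, true, false, true], [true, false, true, false, true, false]]),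
  ([[true, false, true, true, false, true, false, true, true], [true, true, false, true, false, true, true, false, true], [true, false, true, true, false, true, false, true, true], [true, true, false, true, false, true, true, false, true]], [[false, true, false, true, false, true], [true, false, true, false, true, false, true, false], [false, true, false, true, false, true, false, true], [true, false, true, false, true, false]]),
  ([[true, false, true, true], [false, true, false, true, false, true, true, true], [false, true, true, false, true, true, false, true], [true, true, true, false, true, false, true]], [[true, true, true], [false, true, false, true, true, false, true, false], [true, true], [false, true, false, true, true, false, true, false]]),
  ([[true, false, true, true], [false, true, false, true, false, true, true, true], [false, true, true, false, true, true, false, true], [true, true, true, false, true, false, true]], [[true, true, true], [false, true, false, true, true, false, true, false], [true, true], [false, true, false, true, true, false, true, false]]),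
  ([[true, false, true, true], [true, false, true, true, false], [false, true, true, false, true], [true, true, false, true]], [[false, true, false, true], [false, true, true], [false, true, false, true, false, true], [true, true, true, false]]),
  ([[true, false, true, true], [true, false, true, true, false], [false, true, true, false, true], [true, true, false, true]], [[false, true, false, true], [false, true, true], [false, true, false, true, false, true], [true, true, true, false]]),
  ([[false, true, false, true, false, true, true], [false, true, false, true, false, true, true, false], [true, true, false, true, false, true], [false, true, true, false, true, false, true]], [[false, true, true], [false, true, true, false, true, false, true], [true, false], [false, true, false, true, false, true, true, false]]),
  ([[false, true, false, true, false, true, true], [false, true, false, true, false, true, true, false], [true, true, false, true, false, true], [false, true, true, false, true, false, true]], [[false, true, true], [false, true, true, false, true, false, true], [true, false], [false, true, false, true, false, true, true, false]]),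
  ([[true, false, true, true, true, false, true, true], [true, true, false, true, true, true, false, true], [true, false, true, true, true, false, true, true], [true, true, false, true, true, true, false, true]], [[false, true, false, true, true, false], [true, true, false, true], [true, false, true, true], [false, true, true, false, true, false]]),
  ([[true, false, true, true, true, false, true, true], [true, true, false, true, true, true, false, true], [true, false, true, true, true, false, true, true], [true, true, false, true, true, true, false, true]], [[false, true, false, true, true, false], [true, true, false, true], [true, false, true, true], [false, true, true, false, true, false]]),
  ([[true, false, true, true, false, true, false, true, true], [true, true, false, true, false, true, true, false, true], [true, false, true, true, false, true, false, true, true], [true, true, false, true, false, true, true, false, true]], [[false, true, false, true, true, false, true, true], [false, true, false, true, true, false, true], [true, false, true, false, true, true, false], [true, true, false, true, false, true, true, false]]),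
  ([[true, false, true, true, false, true, false, true, true], [true, true, false, true, false, true, true, false, true], [true, false, true, true, false, true, false, true, true], [true, true, false, true, false, true, true, false, true]], [[false, true, false, true, true, false, true, true], [false, true, false, true, true, false, true], [true, false, true, false, true, true, false], [true, true, false, true, false, true, true, false]]),
  ([[true, true, true, false, true], [true, true, false, true, true, true, true], [true, true, true, true, false, true, true], [true, false, true, true, true]], [[true, true, true, false], [true, false, true], [false, true, true], [false, true, false, true, false]]),
  ([[true, true, true, false, true], [true, true, false, true, true, true, true], [true, true, true, true, false, true, true], [true, false, true, true, true]], [[true, true, true, false], [true, false, true], [false, true, true], [false, true, false, true, false]]),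
  ([[true, true, false, true, false, true], [true, false, true, true, false, true, true], [false, true, false, true, false, true, true], [true, false, true, false, true, true]], [[false, true, true], [false, true, false, true, true, false, true], [true, false], [true, true, false, true, false, true, true, false]]),
  ([[true, true, false, true, false, true], [true, false, true, true, false, true, true], [false, true, false, true, false, true, true], [true, false, true, false, true, true]], [[false, true, true], [false, true, false, true, true, false, true], [true, false], [true, true, false, true, false, true, true, false]]),
  ([[true, false, true, true], [true, false, true, true, false], [false, true, true, false, true], [true, true, false, true]], [[false, true, false, true], [false, true, true], [false, true, false, true, false, true], [true, true, true, false]]),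
  ([[true, false, true, true], [true, false, true, true, false], [false, true, true, false, true], [true, true, false, true]], [[false, true, false, true], [false, true, true], [false, true, false, true, false, true], [true, true, true, false]]),
  ([[true, false, true, true, false, true, false, true, true], [true, true, false, true, false, true, true, false, true], [true, false, true, true, false, true, false, true, true], [true, true, false, true, false, true, true, false, true]], [[false, true, false, true, false, true], [true, false, true, false, true, false, true, false], [false, true, false, true, false, true, false, true], [true, false, true, false, true, false]]),
  ([[true, false, true, true, false, true, false, true, true], [true, true, false, true, false, true, true, false, true], [true, false, true, true, false, true, false, true, true], [true, true, false, true, false, true, true, false, true]], [[false, true, false, true, false, true], [true, false, true, false, true, false, true, false], [false, true, false, true, false, true, false, true], [true, false, true, false, true, false]]),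
  ([[true, false, true, true, false, true, false, true, true], [true, true, false, true, false, true, true, false, true], [true, false, true, true, false, true, false, true, true], [true, true, false, true, false, true, true, false, true]], [[false, true, false, true, false, true], [true, false, true, false, true, false, true, false], [false, true, false, true, false, true, false, true], [true, false, true, false, true, false]]),
  ([[true, false, true, true, false, true, false, true, true], [true, true, false, true, false, true, true, false, true], [true, false, true, true, false, true, false, true, true], [true, true, false, true, false, true, true, false, true]], [[false, true, false, true, true, false, true, true], [false, true, false, true, true, false, true], [true, false, true, false, true, true, false], [true, true, false, true, false, true, true, false]]),
  ([[true, false, true, true], [false, true, false, true, false, true, true, true], [false, true, true, false, true, true, false, true], [true, true, true, false, true, false, true]], [[true, true, true], [false, true, false, true, true, false, true, false], [true, true], [false, true, false, true, true, false, true, false]]),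
  ([[true, false, true, true], [false, true, false, true, false, true, true, true], [false, true, true, false, true, true, false, true], [true, true, true, false, true, false, true]], [[true, true, true], [false, true, false, true, true, false, true, false], [true, true], [false, true, false, true, true, false, true, false]]),
  ([[true, false, true, false, true, true, false, true], [true, true, false, true, true, false, true, false, true, true], [true, true, false, true, false, true, true, false, true, true], [true, false, true, true, false, true, false, true]], [[false, true, false, true, true, false, true, true], [false, true, true, false, true, false, true], [true, false, true, false, true, true, false], [true, true, false, true, true, false, true, false]]),
  ([[true, false, true, false, true, true, false, true], [true, true, false, true, true, false, true, false, true, true], [true, true, false, true, false, true, true, false, true, true], [true, false, true, true, false, true, false, true]], [[false, true, false, true, true, false, true, true], [false, true, true, false, true, false, true], [true, false, true, false, true, true, false], [true, true, false, true, true, false, true, false]]),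
  ([[true, true, false, true, false, true], [true, false, true, true, false, true, true], [false, true, false, true, false, true, true], [true, false, true, false, true, true]], [[false, true, true], [false, true, false, true, true, false, true], [true, false], [true, true, false, true, false, true, true, false]]),
  ([[true, true, false, true, false, true], [true, false, true, true, false, true, true], [false, true, false, true, false, true, true], [true, false, true, false, true, true]], [[false, true, true], [false, true, false, true, true, false, true], [true, false], [true, true, false, true, false, true, true, false]]),
  ([[true, false, true, true], [true, false, true, true, false], [false, true, true, false, true], [true, true, false, true]], [[false, true, false, true], [false, true, true], [false, true, false, true, false, true], [true, true, true, false]]),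
  ([[true, false, true, true], [true, false, true, true, false], [false, true, true, false, true], [true, true, false, true]], [[false, true, false, true], [false, true, true], [false, true, false, true, false, true], [true, true, true, false]]),
  ([[true, true, false, true, false, true], [true, false, true, true, false, true, true], [false, true, false, true, false, true, true], [true, false, true, false, true, true]], [[false, true, true], [false, true, true, false, true, false, true], [true, false], [false, true, false, true, false, true, true, false]]),
  ([[true, true, false, true, false, true], [true, false, true, true, false, true, true], [false, true, false, true, false, true, true], [true, false, true, false, true, true]], [[false, true, true], [false, true, false, true, true, false, true], [true, false], [true, true, false, true, false, true, true, false]]),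
  ([[true, true, false, true, false, true], [true, false, true, true, false, true, true], [false, true, false, true, false, true, true], [true, false, true, false, true, true]], [[false, true, true], [false, true, true, false, true, false, true], [true, false], [false, true, false, true, false, true, true, false]]),
  ([[true, true, false, true, false, true], [true, false, true, true, false, true, true], [false, true, false, true, false, true, true], [true, false, true, false, true, true]], [[false, true, true], [false, true, true, false, true, false, true], [true, false], [false, true, false, true, false, true, true, false]]),
  ([[true, false, true, true, false, true, false, true, true], [true, true, false, true, false, true, true, false, true], [true, false, true, true, false, true, false, true, true], [true, true, false, true, false, true, true, false, true]], [[false, true, false, true, false, true], [true, false, true, false, true, false, true, false], [false, true, false, true, false, true, false, true], [true, false, true, false, true, false]]),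
  ([[true, false, true, true, false, true, false, true, true], [true, true, false, true, false, true, true, false, true], [true, false, true, true, false, true, false, true, true], [true, true, false, true, false, true, true, false, true]], [[false, true, false, true, false, true], [true, false, true, false, true, false, true, false], [false, true, false, true, false, true, false, true], [true, false, true, false, true, false]]),
  ([[true, false, true, true, false, true, false, true, true], [true, true, false, true, false, true, true, false, true], [true, false, true, true, false, true, false, true, true], [true, true, false, true, false, true, true, false, true]], [[false, true, false, true, false, true], [true, false, true, false, true, false, true, false], [false, true, false, true, false, true, false, true], [true, false, true, false, true, false]]),
  ([[true, false, true, true, false, true, false, true, true], [true, true, false, true, false, true, true, false, true], [true, false, true, true, false, true, false, true, true], [true, true, false, true, false, true, true, false, true]], [[false, true, false, true, false, true], [true, false, true, false, true, false, true, false], [false, true, false, true, false, true, false, true], [true, false, true, false, true, false]]),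
  ([[true, true, true, false, true], [true, true, false, true, true, true, true], [true, true, true, true, false, true, true], [true, false, true, true, true]], [[true, true, true, false], [true, false, true], [false, true, true], [false, true, false, true, false]]),
  ([[true, true, true, false, true], [true, true, false, true, true, true, true], [true, true, true, true, false, true, true], [true, false, true, true, true]], [[true, true, true, false], [true, false, true], [false, true, true], [false, true, false, true, false]]),
  ([[false, true, false, true, true, true], [true, false, true, true, false, true, true, false], [true, true, true, false, true, false, true], [true, true, false, true, true, false, true]], [[true, true, true, false], [true, false, true], [false, true, true], [false, true, false, true, false]]),
  ([[false, true, false, true, true, true], [true, false, true, true, false, true, true, false], [true, true, true, false, true, false, true], [true, true, false, true, true, false, true]], [[true, true, true, false], [true, false, true], [false, true, true], [false, true, false, true, false]]),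
  ([[true, true, false, true, false, true, false, true], [true, false, true, true, false, true, false, true, true, false, true, true], [false, true, false, true, false, true, false, true, true], [true, false, true, false, true, true, false, true, false, true, true]], [[true, true, false, true, false, true, true, false], [false, true, true, false, true, true, false, true, false, true, false, true], [false, true, false, true, true, false, true], [false, true, false, true, false, true, false, true, true, false, true, false]]),
  ([[true, true, false, true, false, true, false, true], [true, false, true, true, false, true, false, true, true, false, true, true], [false, true, false, true, false, true, false, true, true], [true, false, true, false, true, true, false, true, false, true, true]], [[true, true, false, true, false, true, true, false], [false, true, true, false, true, true, false, true, false, true, false, true], [false, true, false, true, true, false, true], [false, true, false, true, false, true, false, true, true, false, true, false]])]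

theorem perfect_ok : perfectOk 10 subs perfect = true := by decide +kernel

end Cfsg.Agent.AltMod.P5
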