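import Cfsg.Agent.Lib.AltModule.Steps

/-!
Pairs of generators, as words, of nonsolvable subgroups of the alternating group of degree 10.
-/

namespace Cfsg.Agent.AltMod.P5

def subs : List (List ℕ × List ℕ) := [
  ([3, 2, 2, 4, 2, 2], [3, 3, 3, 3, 2, 3, 3]),
  ([3, 3, 2, 2, 4, 2, 2], [2, 3, 3]),
  ([5, 3, 3, 4, 3, 3], [3, 5, 5, 2, 2, 2, 2, 4, 2, 2]),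
  ([5, 5, 3, 3, 4, 3, 3], [4, 2, 2, 5, 5, 5, 5, 3, 5, 5]),
  ([2, 3, 3, 5, 3, 3], [5, 5, 4, 4, 4, 4, 2, 4, 4]),
  ([2, 2, 3, 3, 5, 3, 3], [2, 4, 4, 2, 2, 5]),
  ([5, 4], [5, 5, 5, 5, 3, 5, 5]),
  ([4, 5], [3, 5, 5]),
  ([3, 3, 2, 2, 4, 2, 2], [3, 4, 4, 3, 2, 2, 3, 2, 2, 5, 2, 2]),
  ([3, 2, 2, 4, 2, 2], [4, 4, 4, 4, 3, 4, 4, 3, 2, 2, 3, 2, 2, 5, 2, 2]),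
  ([2, 3, 3, 2, 4, 4, 6, 4, 4], [5, 3, 3, 2, 2, 2, 2, 6, 2, 2]),
  ([2, 3, 3, 2, 4, 4, 6, 4, 4], [6, 2, 2, 3, 3, 3, 3, 5, 3, 3]),
  ([3, 6, 6, 3, 4, 4, 5, 4, 4], [4, 3, 3, 4, 5, 5, 4, 5, 5, 5, 5]),
  ([3, 6, 6, 3, 4, 4, 5, 4, 4], [3, 3, 4, 4, 3, 4, 4, 5, 4, 4]),
  ([6, 2, 2, 3, 2, 2], [4, 2, 2, 4, 6, 6, 4, 6, 6, 3, 6, 6]),
  ([6, 6, 2, 2, 3, 2, 2], [2, 2, 2, 2, 4, 2, 2, 4, 6, 6, 4, 6, 6, 3, 6, 6]),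
  ([7, 6], [4, 5, 5, 7, 7, 7, 7, 6, 7, 7]),
  ([6, 7], [6, 7, 7, 5, 5, 5, 5, 4, 5, 5]),
  ([2, 3, 3, 2, 5, 5, 7, 5, 5], [3, 3, 4, 4, 3, 4, 4, 5, 4, 4, 5, 7, 7, 5, 7, 7, 2, 7, 7]),
  ([2, 3, 3, 2, 5, 5, 7, 5, 5], [4, 3, 3, 4, 5, 5, 4, 5, 5, 7, 5, 5, 7, 2, 2, 7, 2, 2, 2, 2]),
  ([3, 6, 2, 7, 7, 2, 4, 4, 5, 4, 4], [2, 7, 7, 5, 5, 5, 5, 3, 5, 5]),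
  ([6, 3, 2, 7, 7, 2, 4, 4, 5, 4, 4], [3, 5, 5, 7, 7, 7, 7, 2, 7, 7]),
  ([3, 3, 2, 2, 7, 2, 2], [7, 3, 3, 7, 4, 4, 7, 4, 4, 4, 4]),
  ([3, 2, 2, 7, 2, 2], [3, 3, 7, 7, 3, 7, 7, 4, 7, 7]),
  ([7, 7, 4, 4, 8, 4, 4], [5, 5, 5, 5, 8, 5, 5]),
  ([7, 4, 4, 8, 4, 4], [8, 5, 5]),
  ([8, 8, 4, 4, 6, 4, 4], [7, 7, 6, 6, 7, 6, 6, 4, 6, 6]),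
  ([8, 4, 4, 6, 4, 4], [6, 7, 7, 6, 4, 4, 6, 4, 4, 4, 4]),
  ([6, 2, 2, 4, 2, 2], [7, 2, 2, 3, 8, 8, 3, 8, 8, 6, 8, 8]),
  ([6, 6, 2, 2, 4, 2, 2], [2, 2, 2, 2, 7, 2, 2, 3, 8, 8, 3, 8, 8, 6, 8, 8]),
  ([2, 6, 4, 8, 8, 4, 5, 5, 7, 5, 5], [2, 2, 4, 5, 5, 4, 5, 5, 6, 5, 5]),
  ([6, 2, 4, 8, 8, 4, 5, 5, 7, 5, 5], [2, 4, 5, 5, 4, 5, 5, 6, 5, 5]),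
  ([3, 3, 2, 2, 5, 2, 2], [3, 3, 3, 3, 4, 3, 3, 4, 7, 7, 4, 7, 7, 2, 7, 7]),
  ([3, 2, 2, 5, 2, 2], [4, 3, 3, 4, 7, 7, 4, 7, 7, 2, 7, 7]),
  ([7, 4, 2, 3, 3, 2, 5, 5, 8, 5, 5], [2, 3, 5, 5, 3, 5, 5, 6, 5, 5, 4, 8, 8, 4, 8, 8, 7, 8, 8]),
  ([4, 7, 2, 3, 3, 2, 5, 5, 8, 5, 5], [2, 2, 3, 5, 5, 3, 5, 5, 6, 5, 5, 4, 8, 8, 4, 8, 8, 7, 8, 8]),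
  ([3, 5, 5, 3, 8, 8, 9, 8, 8], [3, 9, 9]),
  ([3, 5, 5, 3, 8, 8, 9, 8, 8], [9, 9, 9, 9, 3, 9, 9]),
  ([6, 5, 5, 9, 5, 5], [6, 6, 6, 6, 2, 6, 6, 2, 5, 5, 2, 5, 5, 9, 5, 5]),
  ([6, 6, 5, 5, 9, 5, 5], [2, 6, 6, 2, 5, 5, 2, 5, 5, 9, 5, 5]),
  ([2, 3, 3, 4, 3, 3, 6, 7, 7, 6, 8, 8, 9, 8, 8], [9, 9, 9, 9, 7, 9, 9, 2, 3, 3, 2, 3, 3, 5, 3, 3]),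
  ([2, 2, 3, 3, 4, 3, 3, 6, 7, 7, 6, 8, 8, 9, 8, 8], [7, 9, 9, 2, 3, 3, 2, 3, 3, 5, 3, 3]),
  ([3, 3, 7, 3, 3, 4, 5, 5, 4, 8, 8, 9, 8, 8], [3, 9, 9, 5, 5, 5, 5, 2, 5, 5, 4, 8, 8, 4, 8, 8, 6, 8, 8]),
  ([3, 3, 7, 3, 3, 4, 5, 5, 4, 8, 8, 9, 8, 8], [2, 5, 5, 9, 9, 9, 9, 3, 9, 9, 4, 8, 8, 4, 8, 8, 6, 8, 8]),
  ([2, 5], [9, 7, 7, 2, 2, 2, 2, 6, 2, 2]),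
  ([5, 2], [6, 2, 2, 7, 7, 7, 7, 9, 7, 7]),
  ([8, 5, 3, 7, 7, 3, 4, 4, 6, 4, 4], [6, 8, 8, 3, 4, 4, 3, 4, 4, 5, 4, 4]),
  ([5, 8, 3, 7, 7, 3, 4, 4, 6, 4, 4], [8, 8, 8, 8, 6, 8, 8, 3, 4, 4, 3, 4, 4, 5, 4, 4]),
  ([4, 6, 6, 4, 5, 5, 8, 5, 5], [4, 4, 4, 4, 9, 4, 4, 9, 6, 6, 9, 6, 6, 8, 6, 6]),
  ([4, 6, 6, 4, 5, 5, 8, 5, 5], [9, 4, 4, 9, 6, 6, 9, 6, 6, 8, 6, 6]),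
  ([6, 2, 4, 5, 5, 4, 7, 7, 8, 7, 7], [7, 4, 4, 7, 3, 3, 7, 3, 3, 6, 3, 3, 2, 2, 2, 2, 9, 2, 2, 9, 5, 5, 9, 5, 5, 8, 5, 5]),
  ([2, 6, 4, 5, 5, 4, 7, 7, 8, 7, 7], [9, 2, 2, 9, 5, 5, 9, 5, 5, 8, 5, 5, 4, 4, 4, 4, 7, 4, 4, 7, 3, 3, 7, 3, 3, 6, 3, 3]),
  ([6, 5, 2, 4, 4, 2, 7, 7, 8, 7, 7], [5, 6, 6, 2, 2, 2, 2, 3, 2, 2, 4, 7, 7, 4, 7, 7, 8, 7, 7]),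
  ([5, 6, 2, 4, 4, 2, 7, 7, 8, 7, 7], [3, 2, 2, 6, 6, 6, 6, 5, 6, 6, 4, 7, 7, 4, 7, 7, 8, 7, 7])]

end Cfsg.Agent.AltMod.P5
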